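import Groth.Prelude.Def_BigSite
import Groth.Agent.DerAdj43.Basic
import Mathlib.Algebra.Homology.HomotopyCategory.KInjective

/-!
Monomorphisms on big sites; K-injectives.
-/

set_option autoImplicit false
set_option backward.isDefEq.respectTransparency.types false
universe u v' u'

open CategoryTheory CategoryTheory.Limits AlgebraicGeometry Opposite

namespace Groth.Agent.Big45

theorem isIso_bigAdj_counit {X Y : Scheme.{u}} (f : X ⟶ Y) [Mono f] (K : Precoverage Scheme.{u})
    (A : Type u') [Category.{v'} A] (P : Sheaf (QuotSh.J K X) A) :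
    IsIso ((BigSite.bigAdj K f A).counit.app P) := by
  have : (Over.map f).Full := ⟨fun {a b} φ => ⟨Over.homMk φ.left ((cancel_mono f).1
    ((Category.assoc _ _ _).trans (Over.w φ))), Over.OverMorphism.ext rfl⟩⟩
  have : (Over.map f).Faithful := ⟨fun h => Over.OverMorphism.ext (congrArg CommaMorphism.left h :)⟩
  have hu : IsIso (Over.mapPullbackAdj f).unit := inferInstance
  have h2 : ∀ U, IsIso (((BigSite.bigAdj K f A).counit.app P).hom.app U) := by
    intro U
    have : IsIso ((Over.mapPullbackAdj f).op.counit.app U) :=
      inferInstanceAs (IsIso ((Over.mapPullbackAdj f).unit.app U.unop).op)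
    dsimp [BigSite.bigAdj, Adjunction.sheafPushforwardContinuous]
    simp only [Adjunction.whiskerLeft_counit_app_app]
    exact (P.obj.mapIso (@asIso _ _ _ _ ((Over.mapPullbackAdj f).op.counit.app U) this)).isIso_hom
  have : IsIso ((BigSite.bigAdj K f A).counit.app P).hom := NatIso.isIso_of_isIso_app _
  have : IsIso ((sheafToPresheaf _ _).map ((BigSite.bigAdj K f A).counit.app P)) := this
  exact isIso_of_reflects_iso _ (sheafToPresheaf _ _)

/-- An exact left adjoint makes the right adjoint preserve K-injective complexes. -/
theorem isKInjective_of_adj {C : Type*} [Category C] [Abelian C] {D : Type*} [Category D] [Abelian D]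
    {L : C ⥤ D} {R : D ⥤ C} (adj : L ⊣ R) [L.Additive] [R.Additive] [L.PreservesHomology]
    (I : CochainComplex D ℤ) [I.IsKInjective] :
    CochainComplex.IsKInjective ((R.mapHomologicalComplex (ComplexShape.up ℤ)).obj I) where
  nonempty_homotopy_zero {K} φ hK := by
    let cadj := DerAdj43.complexAdj adj (ComplexShape.up ℤ)
    have hac : ((L.mapHomologicalComplex (ComplexShape.up ℤ)).obj K).Acyclic := fun n => by
      have := hK n
      rw [HomologicalComplex.exactAt_iff] at this ⊢
      exact this.map L
    obtain ⟨h⟩ := CochainComplex.IsKInjective.nonempty_homotopy_zero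
      ((cadj.homEquiv K I).symm φ) hac
    have e : φ = cadj.unit.app K ≫ (R.mapHomologicalComplex _).map ((cadj.homEquiv K I).symm φ) :=
      ((cadj.homEquiv K I).apply_symm_apply φ).symm.trans (cadj.homEquiv_unit _ _ _)
    refine ⟨(Homotopy.ofEq e).trans (((R.mapHomotopy h).compLeft (cadj.unit.app K)).trans
      (Homotopy.ofEq ?_))⟩
    rw [Functor.map_zero, comp_zero]

end Groth.Agent.Big45
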