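import Groth.Agent.Big45.Shriek
import Groth.Agent.LocCohZ46.Derived
import Groth.Agent.SiteCoh.ExtRes

/-!
Base change for direct images on big sites.
-/

set_option autoImplicit false
set_option backward.isDefEq.respectTransparency.types false
universe u v' u'

open CategoryTheory CategoryTheory.Limits AlgebraicGeometry Opposite

namespace Groth.Agent.Big45

variable {S T S' T' : Scheme.{u}} {f : T ⟶ S} {g : S' ⟶ S} {g' : T' ⟶ T} {f' : T' ⟶ S'}
  (c : IsPullback g' f' f g)

include c in
/-- Pasting of fibre products. -/
theorem isPullback_paste (V : Over S') :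
    IsPullback (pullback.fst V.hom f') (pullback.snd V.hom f' ≫ g') (V.hom ≫ g) f :=
  (IsPullback.of_hasPullback V.hom f').paste_vert c.flip

/-- Base change of the functors between the big sites. -/
noncomputable def pullbackMapIso :
    Over.pullback f' ⋙ Over.map g' ≅ Over.map g ⋙ Over.pullback f :=
  NatIso.ofComponents
    (fun V => Over.isoMk (isPullback_paste c V).isoPullback (by
      simp [IsPullback.isoPullback_hom_snd]))
    (fun {V W} φ => by
      apply Over.OverMorphism.ext
      apply pullback.hom_ext
      · simp [IsPullback.isoPullback_hom_fst]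
        erw [pullback.lift_fst, pullback.lift_fst, IsPullback.isoPullback_hom_fst_assoc]
      · simp [IsPullback.isoPullback_hom_snd]
        erw [pullback.lift_snd_assoc, pullback.lift_snd, IsPullback.isoPullback_hom_snd])

variable (A : Type u') [Category.{v'} A] (K : Precoverage Scheme.{u})

/-- Base change on big sites. -/
noncomputable def pushPullIso :
    BigSite.pushBig K f A ⋙ BigSite.pullBig K g A ≅ BigSite.pullBig K g' A ⋙ BigSite.pushBig K f' A :=
  haveI : (Over.map g ⋙ Over.pullback f).IsContinuous (QuotSh.J K S') (QuotSh.J K T) :=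
    Functor.isContinuous_comp (Over.map g) (Over.pullback f) (QuotSh.J K S') (QuotSh.J K S) (QuotSh.J K T)
  Functor.sheafPushforwardContinuousComp' (F := Over.map g) (G := Over.pullback f)
      (FG := Over.map g ⋙ Over.pullback f) (Iso.refl _) A (QuotSh.J K S') (QuotSh.J K S) (QuotSh.J K T) ≪≫
    (Functor.sheafPushforwardContinuousComp' (F := Over.pullback f') (G := Over.map g')
      (FG := Over.map g ⋙ Over.pullback f) (pullbackMapIso c) A
      (QuotSh.J K S') (QuotSh.J K T') (QuotSh.J K T)).symm

/-- Base change between big and small sites. -/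
noncomputable def pushAlongIso :
    BigSite.pushBig Ket f AddCommGrpCat.{u + 1} ⋙ BigSite.resEtAlong Ket g ≅
      BigSite.resEtAlong Ket g' ⋙ EtCoh.push f' :=
  (Functor.associator _ _ _).symm ≪≫
    Functor.isoWhiskerRight (pushPullIso c AddCommGrpCat.{u + 1} Ket) (BigSite.resEt Ket S') ≪≫
    Functor.associator _ _ _ ≪≫ Functor.isoWhiskerLeft _ (pushResIso f') ≪≫
    (Functor.associator _ _ _).symm

/-- Right derived functors of isomorphic functors. -/
noncomputable def rdIso {C : Type*} [Category C] [Abelian C] [EnoughInjectives C] {D : Type*} [Category D]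
    [Abelian D] {F G : C ⥤ D} [F.Additive] [G.Additive] (e : F ≅ G) (n : ℕ) :
    F.rightDerived n ≅ G.rightDerived n where
  hom := NatTrans.rightDerived e.hom n
  inv := NatTrans.rightDerived e.inv n
  hom_inv_id := by rw [← NatTrans.rightDerived_comp, e.hom_inv_id, NatTrans.rightDerived_id]
  inv_hom_id := by rw [← NatTrans.rightDerived_comp, e.inv_hom_id, NatTrans.rightDerived_id]

instance enoughInjectives_big (K : Precoverage Scheme.{u}) (S : Scheme.{u}) :
    EnoughInjectives (BigSite.Ab K S) := IsGrothendieckAbelian.enoughInjectives.{u + 1}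

instance enoughInjectives_et (S : Scheme.{u}) : EnoughInjectives (EtCoh.Ab S) :=
  IsGrothendieckAbelian.enoughInjectives.{u + 1}

/-- Higher direct images and base change on big sites. -/
noncomputable def rpushPullIso (F : BigSite.Ab K T) (q : ℕ) :
    (BigSite.pullBig K g AddCommGrpCat.{u + 1}).obj ((BigSite.RpushBig K f q).obj F) ≅
      (BigSite.RpushBig K f' q).obj ((BigSite.pullBig K g' AddCommGrpCat.{u + 1}).obj F) :=
  ((SiteCoh.rightDerivedCompExactIso (BigSite.pushBig K f AddCommGrpCat.{u + 1})
      (BigSite.pullBig K g AddCommGrpCat.{u + 1}) q).symm ≪≫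
    rdIso (pushPullIso c AddCommGrpCat.{u + 1} K) q ≪≫
    LocCohZ46.rightDerivedPreExactIso (BigSite.pullBig K g' AddCommGrpCat.{u + 1})
      (fun I _ => inferInstance) (BigSite.pushBig K f' AddCommGrpCat.{u + 1}) q).app F

/-- Higher direct images and restriction to small sites. -/
noncomputable def rpushAlongIso (F : BigSite.Ab Ket T) (q : ℕ) :
    (BigSite.resEtAlong Ket g).obj ((BigSite.RpushBig Ket f q).obj F) ≅
      (EtCoh.Rpush f' q).obj ((BigSite.resEtAlong Ket g').obj F) :=
  ((SiteCoh.rightDerivedCompExactIso (BigSite.pushBig Ket f AddCommGrpCat.{u + 1})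
      (BigSite.resEtAlong Ket g) q).symm ≪≫
    rdIso (pushAlongIso c) q ≪≫
    LocCohZ46.rightDerivedPreExactIso (BigSite.resEtAlong Ket g')
      (fun I _ => inferInstance) (EtCoh.push f') q).app F

end Groth.Agent.Big45
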