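import Groth.Agent.Big45.Exact
import Groth.Agent.SiteCoh.ExtCompare
import Groth.Prelude.Def_EtCore

/-!
Cohomology of the big etale site is cohomology of the small etale site.
-/

set_option autoImplicit false
set_option backward.isDefEq.respectTransparency.types false
universe u

open CategoryTheory CategoryTheory.Limits AlgebraicGeometry Opposite CategoryTheory.Abelian

namespace Groth.Agent.Big45

variable (S : Scheme.{u})

/-- The constant sheaf on the big site comes from the small site. -/
noncomputable def constIso :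
    constantSheaf S.smallEtaleTopology AddCommGrpCat.{u + 1} ⋙ BigSite.piEtPull Ket S ≅
      constantSheaf (QuotSh.J Ket S) AddCommGrpCat.{u + 1} :=
  ((constantSheafAdj S.smallEtaleTopology AddCommGrpCat.{u + 1} (EtCore.topIsTerminal S)).comp
    (BigSite.piEtAdj Ket S)).leftAdjointUniq
    (constantSheafAdj (QuotSh.J Ket S) AddCommGrpCat.{u + 1}
      (T := (EtFppf.a S).obj (EtCoh.top S)) Over.mkIdTerminal)

/-- The universal element. -/
noncomputable def etaZ :
    (constantSheaf S.smallEtaleTopology AddCommGrpCat.{u + 1}).obj (AddCommGrpCat.of (ULift.{u + 1} ℤ)) ⟶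
      (BigSite.resEt Ket S).obj ((constantSheaf (QuotSh.J Ket S) AddCommGrpCat.{u + 1}).obj
        (AddCommGrpCat.of (ULift.{u + 1} ℤ))) :=
  (BigSite.piEtAdj Ket S).homEquiv _ _ ((constIso S).hom.app _)

theorem transfer_bijective (F : BigSite.Ab Ket S) (n : ℕ) :
    Function.Bijective (SiteCoh.extTransfer (BigSite.resEt Ket S) (etaZ S) F n) := by
  refine SiteCoh.extTransfer_bijective _ _ (fun G => ?_) (fun J hJ m => ?_) n F
  · have e : (fun φ : _ ⟶ G => etaZ S ≫ (BigSite.resEt Ket S).map φ) =
        ((BigSite.piEtAdj Ket S).homEquiv _ _) ∘ (fun φ => (constIso S).hom.app _ ≫ φ) :=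
      funext fun φ => ((BigSite.piEtAdj Ket S).homEquiv_naturality_right _ φ).symm
    rw [e]
    exact (Equiv.bijective _).comp ((isIso_iff_coyoneda_map_bijective _).1 inferInstance G)
  · exact Ext.subsingleton_of_injective _ _ m

/-- Cohomology of the small site is cohomology of the big site. -/
noncomputable def hResEquiv (F : BigSite.Ab Ket S) (n : ℕ) :
    EtCoh.H S ((BigSite.resEt Ket S).obj F) n ≃+ BigSite.H Ket S F n :=
  (AddEquiv.ofBijective _ (transfer_bijective S F n)).symm

variable {S}

/-- Cohomology is invariant under isomorphisms. -/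
noncomputable def hCongr {C : Type*} [Category C] [Abelian C] [HasExt.{u + 1} C] (X : C) {F G : C}
    (e : F ≅ G) (n : ℕ) : Ext.{u + 1} X F n ≃+ Ext.{u + 1} X G n where
  toFun x := x.comp (Ext.mk₀ e.hom) (add_zero n)
  invFun x := x.comp (Ext.mk₀ e.inv) (add_zero n)
  left_inv x := by simp
  right_inv x := by simp
  map_add' x y := Ext.add_comp _ _ _ _

/-- Cohomology of an inverse image on the big site. -/
noncomputable def huEquiv {T : Scheme.{u}} (f : T ⟶ S) (n : ℕ) (F : EtCoh.Ab S) :
    BigSite.HU Ket ((BigSite.piEtPull Ket S).obj F) n (Over.mk f) ≃+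
      EtCoh.H T ((EtCoh.pull f).obj F) n :=
  (hResEquiv T ((BigSite.pullBig Ket f AddCommGrpCat.{u + 1}).obj
    ((BigSite.piEtPull Ket S).obj F)) n).symm.trans (hCongr _ ((piPullIso f).app F) n)

end Groth.Agent.Big45
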