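import Groth.Agent.Big45.Site
import Groth.Agent.Unr55.Et.PullExact
import Mathlib.Algebra.Homology.ShortComplex.ExactFunctor
import Mathlib.CategoryTheory.Preadditive.Injective.Basic

/-!
Exactness of the inverse image from the small to the big etale site; restriction preserves injectives.
-/

set_option autoImplicit false
set_option backward.isDefEq.respectTransparency.types false
universe u

open CategoryTheory CategoryTheory.Limits AlgebraicGeometry Opposite

namespace Groth.Agent.Big45

variable {S T : Scheme.{u}}

theorem mono_of_resEtAlong {F G : BigSite.Ab Ket S} (φ : F ⟶ G)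
    (h : ∀ {T : Scheme.{u}} (f : T ⟶ S), Mono ((BigSite.resEtAlong Ket f).map φ)) : Mono φ := by
  have : Mono φ.hom := by
    have : ∀ U, Mono (φ.hom.app U) := by
      intro U
      let e : (Over.map U.unop.hom).obj ((EtFppf.a U.unop.left).obj (EtCoh.top U.unop.left)) ≅ U.unop :=
        Over.isoMk (Iso.refl _) (by simp [EtCoh.top, Scheme.Etale.mk, MorphismProperty.Over.forget]; rfl)
      have hm := h U.unop.hom
      have h1 : Mono ((BigSite.resEtAlong Ket U.unop.hom).map φ).hom :=
        (sheafToPresheaf (unop U).left.smallEtaleTopology AddCommGrpCat.{u + 1}).map_mono ((BigSite.resEtAlong Ket U.unop.hom).map φ)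
      have h2 := (NatTrans.mono_iff_mono_app _).1 h1 (op (EtCoh.top U.unop.left))
      have h3 : Mono (φ.hom.app (op ((Over.map U.unop.hom).obj
          ((EtFppf.a U.unop.left).obj (EtCoh.top U.unop.left))))) := h2
      have h4 : φ.hom.app U = F.obj.map e.hom.op ≫ φ.hom.app _ ≫ G.obj.map e.inv.op := by
        rw [φ.hom.naturality_assoc, ← G.obj.map_comp, ← op_comp, e.inv_hom_id]
        simp
      rw [h4]
      infer_instance
    exact @NatTrans.mono_of_mono_app _ _ _ _ _ _ _ this
  exact (sheafToPresheaf _ _).mono_of_mono_map this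

instance additive_piEtPull (S : Scheme.{u}) : (BigSite.piEtPull Ket S).Additive :=
  (BigSite.piEtAdj Ket S).left_adjoint_additive

instance preservesFiniteColimits_piEtPull (S : Scheme.{u}) :
    PreservesFiniteColimits (BigSite.piEtPull Ket S) :=
  ⟨fun _ _ _ => (BigSite.piEtAdj Ket S).leftAdjoint_preservesColimits.preservesColimitsOfShape⟩

instance preservesMonomorphisms_piEtPull (S : Scheme.{u}) :
    (BigSite.piEtPull Ket S).PreservesMonomorphisms where
  preserves {F G} φ _ := mono_of_resEtAlong _ fun {T} f => by
    have := Unr55.EtSh.preservesFiniteLimits_pull f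
    have h : Mono ((EtCoh.pull f).map φ) := inferInstance
    have e : (BigSite.resEtAlong Ket f).map ((BigSite.piEtPull Ket S).map φ) =
        (piPullIso f).hom.app F ≫ (EtCoh.pull f).map φ ≫ (piPullIso f).inv.app G :=
      (NatIso.naturality_2 (piPullIso f) φ).symm
    rw [e]
    infer_instance

instance preservesFiniteLimits_piEtPull (S : Scheme.{u}) :
    PreservesFiniteLimits (BigSite.piEtPull Ket S) := by
  refine (Functor.preservesFiniteLimits_iff_forall_exact_map_and_mono _).2 fun C hC => ?_
  have := hC.mono_f
  exact ⟨((Functor.preservesFiniteColimits_iff_forall_exact_map_and_epi _).1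
    inferInstance C hC).1, inferInstance⟩

instance preservesFiniteLimits_resEt (S : Scheme.{u}) : PreservesFiniteLimits (BigSite.resEt Ket S) :=
  ⟨fun _ _ _ => (BigSite.piEtAdj Ket S).rightAdjoint_preservesLimits.preservesLimitsOfShape⟩

instance preservesFiniteColimits_resEt (S : Scheme.{u}) : PreservesFiniteColimits (BigSite.resEt Ket S) :=
  ⟨fun _ _ _ => (BigSite.iEtAdj Ket S).leftAdjoint_preservesColimits.preservesColimitsOfShape⟩

instance injective_resEt (I : BigSite.Ab Ket S) [Injective I] :
    Injective ((BigSite.resEt Ket S).obj I) :=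
  Injective.injective_of_adjoint (BigSite.piEtAdj Ket S) I

variable (f : T ⟶ S)

instance preservesFiniteLimits_pullBig (K : Precoverage Scheme.{u}) :
    PreservesFiniteLimits (BigSite.pullBig K f AddCommGrpCat.{u + 1}) :=
  ⟨fun _ _ _ => (BigSite.shriekAbAdj K f).rightAdjoint_preservesLimits.preservesLimitsOfShape⟩

instance preservesFiniteColimits_pullBig (K : Precoverage Scheme.{u}) :
    PreservesFiniteColimits (BigSite.pullBig K f AddCommGrpCat.{u + 1}) :=
  ⟨fun _ _ _ => (BigSite.bigAdj K f AddCommGrpCat.{u + 1}).leftAdjoint_preservesColimits.preservesColimitsOfShape⟩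

end Groth.Agent.Big45
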