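import Groth.Agent.Big45.Pseudo
import Groth.Prelude.Def_CohSite
import Mathlib.CategoryTheory.Functor.KanExtension.Adjunction
import Mathlib.CategoryTheory.Sites.Pullback
import Mathlib.Algebra.Homology.ShortComplex.ExactFunctor

/-!
Exactness of the inverse image of abelian sheaves along a functor with pseudo-filtered comma
categories; injectives are preserved by the corresponding direct image.
-/

universe u

open CategoryTheory CategoryTheory.Limits Opposite

namespace Groth.Agent.Big45

variable {C : Type (u + 1)} [Category.{u} C] {D : Type (u + 1)} [Category.{u} D] (u : C ⥤ D)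

/-- All comma categories `CostructuredArrow u.op V` are pseudo-filtered. -/
class HasPseudoFilteredComma : Prop where
  pseudoFiltered : ∀ V : Dᵒᵖ, IsPseudoFiltered (CostructuredArrow u.op V)

attribute [instance] HasPseudoFilteredComma.pseudoFiltered

/-- Commuting with fibre products and equalizers suffices. -/
lemma hasPseudoFilteredComma_of_preserves [HasPullbacks C] [HasEqualizers C]
    [PreservesLimitsOfShape WalkingCospan u] [PreservesLimitsOfShape WalkingParallelPair u] :
    HasPseudoFilteredComma u := by
  refine ⟨fun V => ⟨fun {a b c} f g => ?_, fun {a b} f g => ?_⟩⟩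
  · have ef : a.hom.unop = b.hom.unop ≫ u.map f.left.unop :=
      (congrArg Quiver.Hom.unop (CostructuredArrow.w f)).symm
    have eg : a.hom.unop = c.hom.unop ≫ u.map g.left.unop :=
      (congrArg Quiver.Hom.unop (CostructuredArrow.w g)).symm
    have hP := (IsPullback.of_hasPullback f.left.unop g.left.unop).map u
    let t := hP.lift b.hom.unop c.hom.unop (ef.symm.trans eg)
    refine ⟨CostructuredArrow.mk (Y := op (pullback f.left.unop g.left.unop))
      (t.op : u.op.obj (op (pullback f.left.unop g.left.unop)) ⟶ V),
      CostructuredArrow.homMk (pullback.fst _ _).op (Quiver.Hom.unop_inj ?_),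
      CostructuredArrow.homMk (pullback.snd _ _).op (Quiver.Hom.unop_inj ?_), ?_⟩
    · exact hP.lift_fst _ _ _
    · exact hP.lift_snd _ _ _
    · apply CostructuredArrow.hom_ext
      exact congrArg Quiver.Hom.op pullback.condition
  · have ef : a.hom.unop = b.hom.unop ≫ u.map f.left.unop :=
      (congrArg Quiver.Hom.unop (CostructuredArrow.w f)).symm
    have eg : a.hom.unop = b.hom.unop ≫ u.map g.left.unop :=
      (congrArg Quiver.Hom.unop (CostructuredArrow.w g)).symm
    have hE := isLimitForkMapOfIsLimit u _ (equalizerIsEqualizer f.left.unop g.left.unop)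
    let t := Fork.IsLimit.lift hE b.hom.unop (ef.symm.trans eg)
    refine ⟨CostructuredArrow.mk (Y := op (equalizer f.left.unop g.left.unop))
      (t.op : u.op.obj (op (equalizer f.left.unop g.left.unop)) ⟶ V),
      CostructuredArrow.homMk (equalizer.ι _ _).op (Quiver.Hom.unop_inj ?_), ?_⟩
    · exact Fork.IsLimit.lift_ι hE
    · apply CostructuredArrow.hom_ext
      exact congrArg Quiver.Hom.op (equalizer.condition _ _)

variable [HasPseudoFilteredComma u]

instance lan_preservesMonomorphisms :
    (u.op.lan : (Cᵒᵖ ⥤ AddCommGrpCat.{u + 1}) ⥤ _).PreservesMonomorphisms where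
  preserves {P Q} α _ := by
    have : ∀ V, Mono ((u.op.lan.map α).app V) := fun V => by
      have e : (u.op.leftKanExtensionObjIsoColimit P V).inv ≫ (u.op.lan.map α).app V =
          colimMap (Functor.whiskerLeft (CostructuredArrow.proj u.op V) α) ≫
            (u.op.leftKanExtensionObjIsoColimit Q V).inv := by
        refine colimit.hom_ext fun f => ?_
        have hn := (u.op.lan.map α).naturality f.hom
        have hu := NatTrans.congr_app (u.op.lanUnit.naturality α) f.left
        refine (Category.assoc _ _ _).symm.trans ?_
        refine ((Functor.ι_leftKanExtensionObjIsoColimit_inv u.op P V f) =≫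
          (u.op.lan.map α).app V).trans ?_
        refine Eq.trans ?_ (Category.assoc _ _ _)
        refine Eq.trans ?_ ((ι_colimMap (Functor.whiskerLeft (CostructuredArrow.proj u.op V) α) f) =≫
          (u.op.leftKanExtensionObjIsoColimit Q V).inv).symm
        refine Eq.trans ?_ ((α.app f.left ≫= Functor.ι_leftKanExtensionObjIsoColimit_inv u.op Q V f).symm.trans
          (Category.assoc _ _ _).symm)
        refine (Category.assoc _ _ _).trans ?_
        exact (_ ≫= hn).trans ((Category.assoc _ _ _).symm.trans
          ((hu.symm =≫ _).trans (Category.assoc _ _ _)))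
      have : Mono (Functor.whiskerLeft (CostructuredArrow.proj u.op V) α) := by
        have := fun i => (NatTrans.mono_iff_mono_app α).1 inferInstance
          ((CostructuredArrow.proj u.op V).obj i)
        exact @NatTrans.mono_of_mono_app _ _ _ _ _ _ _ this
      have h2 : Mono (colimMap (Functor.whiskerLeft (CostructuredArrow.proj u.op V) α)) :=
        inferInstanceAs (Mono ((colim :
          (CostructuredArrow u.op V ⥤ AddCommGrpCat.{u + 1}) ⥤ _).map _))
      rw [← cancel_epi (u.op.leftKanExtensionObjIsoColimit P V).hom, Iso.hom_inv_id_assoc] at e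
      rw [e]
      exact @mono_comp _ _ _ _ _ _ inferInstance _ (@mono_comp _ _ _ _ _ _ h2 _ inferInstance)
    exact @NatTrans.mono_of_mono_app _ _ _ _ _ _ _ this

variable (J : GrothendieckTopology C) (K : GrothendieckTopology D) [u.IsContinuous J K]

instance sheafPullback_preservesMonomorphisms :
    (u.sheafPullback AddCommGrpCat.{u + 1} J K).PreservesMonomorphisms := by
  have h1 : (presheafToSheaf K AddCommGrpCat.{u + 1}).PreservesMonomorphisms :=
    preservesMonomorphisms_of_preservesLimitsOfShape _
  have h2 : (u.op.lan ⋙ presheafToSheaf K AddCommGrpCat.{u + 1}).PreservesMonomorphisms :=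
    Functor.preservesMonomorphisms_comp _ _
  have h3 : (sheafToPresheaf J AddCommGrpCat.{u + 1}).PreservesMonomorphisms :=
    preservesMonomorphisms_of_preservesLimitsOfShape _
  have : (Functor.sheafPullbackConstruction.sheafPullback u AddCommGrpCat.{u + 1} J K).PreservesMonomorphisms :=
    Functor.preservesMonomorphisms_comp (sheafToPresheaf J AddCommGrpCat.{u + 1})
      (u.op.lan ⋙ presheafToSheaf K AddCommGrpCat.{u + 1})
  exact Functor.PreservesMonomorphisms.of_iso
    (Functor.sheafPullbackConstruction.sheafPullbackIso u AddCommGrpCat.{u + 1} J K).symm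

/-- The inverse image of abelian sheaves is exact. -/
theorem sheafPullback_preservesFiniteLimits :
    PreservesFiniteLimits (u.sheafPullback AddCommGrpCat.{u + 1} J K) := by
  have adj := u.sheafAdjunctionContinuous AddCommGrpCat.{u + 1} J K
  have : (u.sheafPushforwardContinuous AddCommGrpCat.{u + 1} J K).Additive := ⟨rfl⟩
  have : (u.sheafPullback AddCommGrpCat.{u + 1} J K).Additive := adj.left_adjoint_additive
  have hl : (u.sheafPullback AddCommGrpCat.{u + 1} J K).IsLeftAdjoint := adj.isLeftAdjoint
  have hc : PreservesFiniteColimits (u.sheafPullback AddCommGrpCat.{u + 1} J K) :=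
    ⟨fun I _ _ => adj.leftAdjoint_preservesColimits.preservesColimitsOfShape⟩
  refine ((Functor.preservesFiniteLimits_tfae (u.sheafPullback AddCommGrpCat.{u + 1} J K)).out 0 3).1
    fun S hS => ?_
  have := hS.mono_f
  have h0 : ∀ (S : ShortComplex (Sheaf J AddCommGrpCat.{u + 1})), S.ShortExact →
      (S.map (u.sheafPullback AddCommGrpCat.{u + 1} J K)).Exact ∧
        Epi ((u.sheafPullback AddCommGrpCat.{u + 1} J K).map S.g) :=
    ((Functor.preservesFiniteColimits_tfae (u.sheafPullback AddCommGrpCat.{u + 1} J K)).out 3 0).1 hc
  have h := h0 S hS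
  exact ⟨h.1, inferInstance⟩

end Groth.Agent.Big45
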