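import Groth.Agent.Big45.Exact
import Groth.Agent.Big45.Mono
import Groth.Agent.Big45.LanExact
import Mathlib.CategoryTheory.Limits.Constructions.Over.Connected

/-!
Extension by zero along any morphism is exact on big sites; restriction preserves injectives.
-/

set_option autoImplicit false
set_option backward.isDefEq.respectTransparency.types false
universe u

open CategoryTheory CategoryTheory.Limits AlgebraicGeometry Opposite

namespace Groth.Agent.Big45

variable {S T : Scheme.{u}} (f : T ⟶ S)

instance hasPseudoFilteredComma_map : HasPseudoFilteredComma (Over.map f) := by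
  have h : ∀ (J : Type) [SmallCategory J] [IsConnected J], PreservesLimitsOfShape J (Over.map f) :=
    fun J _ _ =>
      have : PreservesLimitsOfShape J (Over.map f ⋙ Over.forget S) :=
        inferInstanceAs (PreservesLimitsOfShape J (Over.forget T))
      preservesLimitsOfShape_of_reflects_of_preserves (Over.map f) (Over.forget S)
  have := h WalkingCospan
  have := h WalkingParallelPair
  exact hasPseudoFilteredComma_of_preserves (Over.map f)

instance preservesFiniteLimits_shriekAb (K : Precoverage Scheme.{u}) :
    PreservesFiniteLimits (BigSite.shriekAb K f) :=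
  sheafPullback_preservesFiniteLimits (Over.map f) (QuotSh.J K T) (QuotSh.J K S)

instance injective_pullBig (K : Precoverage Scheme.{u}) (I : BigSite.Ab K S) [Injective I] :
    Injective ((BigSite.pullBig K f AddCommGrpCat.{u + 1}).obj I) :=
  Injective.injective_of_adjoint (BigSite.shriekAbAdj K f) I

instance injective_resEtAlong (I : BigSite.Ab Ket S) [Injective I] :
    Injective ((BigSite.resEtAlong Ket f).obj I) :=
  inferInstanceAs (Injective ((BigSite.resEt Ket T).obj
    ((BigSite.pullBig Ket f AddCommGrpCat.{u + 1}).obj I)))

end Groth.Agent.Big45

namespace Groth.Agent.Big45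

variable {S T : Scheme.{u}} (f : T ⟶ S)

/-- Restriction along any morphism preserves K-injective complexes. -/
theorem isKInjective_resEtAlong (I : CochainComplex (BigSite.Ab Ket S) ℤ) [I.IsKInjective] :
    CochainComplex.IsKInjective
        (((BigSite.resEt Ket S).mapHomologicalComplex (ComplexShape.up ℤ)).obj I) ∧
      CochainComplex.IsKInjective
        (((BigSite.resEtAlong Ket f).mapHomologicalComplex (ComplexShape.up ℤ)).obj I) := by
  have : (BigSite.shriekAb Ket f).Additive := (BigSite.shriekAbAdj Ket f).left_adjoint_additive
  have : PreservesFiniteColimits (BigSite.shriekAb Ket f) :=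
    ⟨fun _ _ _ => (BigSite.shriekAbAdj Ket f).leftAdjoint_preservesColimits.preservesColimitsOfShape⟩
  have : (BigSite.resEtAlong Ket f).Additive := inferInstance
  refine ⟨isKInjective_of_adj (BigSite.piEtAdj Ket S) I, ?_⟩
  exact isKInjective_of_adj ((BigSite.piEtAdj Ket T).comp (BigSite.shriekAbAdj Ket f)) I

end Groth.Agent.Big45
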