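import Groth.Prelude.Def_BigSite
import Mathlib.CategoryTheory.Adjunction.Triple
import Mathlib.CategoryTheory.Adjunction.Unique

/-!
The small etale site inside the big etale site: restriction, its two adjoints, base change.
-/

set_option autoImplicit false
set_option backward.isDefEq.respectTransparency.types false
universe u v' u'

open CategoryTheory CategoryTheory.Limits AlgebraicGeometry Opposite

namespace Groth.Agent.Big45

/-- The etale precoverage. -/
abbrev Ket : Precoverage Scheme.{u} := Scheme.etalePrecoverage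

variable {S T : Scheme.{u}}

instance full_a (S : Scheme.{u}) : (EtFppf.a S).Full := inferInstanceAs (Scheme.Etale.forget S).Full

instance faithful_a (S : Scheme.{u}) : (EtFppf.a S).Faithful :=
  inferInstanceAs (Scheme.Etale.forget S).Faithful

section counit

variable (S) (A : Type u') [Category.{v'} A]
  [∀ (F : S.Etaleᵒᵖ ⥤ A), (EtFppf.a S).op.HasPointwiseRightKanExtension F]

theorem isIso_counit_cocontinuous (G : Sheaf S.smallEtaleTopology A) :
    IsIso (((EtFppf.a S).sheafAdjunctionCocontinuous A S.smallEtaleTopology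
      (QuotSh.J Ket S)).counit.app G) := by
  have h : IsIso (((EtFppf.a S).sheafAdjunctionCocontinuous A S.smallEtaleTopology
      (QuotSh.J Ket S)).counit.app G).hom := by
    rw [Functor.sheafAdjunctionCocontinuous_counit_app_hom, Functor.ranAdjunction_counit]
    refine @NatIso.isIso_of_isIso_app _ _ _ _ _ _ _ fun X => ?_
    exact ((EtFppf.a S).op.isPointwiseRightKanExtensionRanCounit G.obj
      ((EtFppf.a S).op.obj X)).isIso_hom_app
  have : IsIso ((sheafToPresheaf _ _).map (((EtFppf.a S).sheafAdjunctionCocontinuous A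
      S.smallEtaleTopology (QuotSh.J Ket S)).counit.app G)) := h
  exact isIso_of_reflects_iso _ (sheafToPresheaf _ _)

theorem isIso_unit_continuous
    [((EtFppf.a S).sheafPushforwardContinuous A S.smallEtaleTopology (QuotSh.J Ket S)).IsRightAdjoint] :
    IsIso ((EtFppf.a S).sheafAdjunctionContinuous A S.smallEtaleTopology (QuotSh.J Ket S)).unit := by
  let t : Adjunction.Triple _ _ _ :=
    { adj₁ := (EtFppf.a S).sheafAdjunctionContinuous A S.smallEtaleTopology (QuotSh.J Ket S)
      adj₂ := (EtFppf.a S).sheafAdjunctionCocontinuous A S.smallEtaleTopology (QuotSh.J Ket S) }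
  have := isIso_counit_cocontinuous S A
  have : IsIso t.adj₂.counit := NatIso.isIso_of_isIso_app _
  exact t.isIso_unit_iff_isIso_counit.2 this

end counit

/-- Restriction to the small site and back is the identity. -/
noncomputable def resPushIso (S : Scheme.{u}) :
    BigSite.iEtPush Ket S ⋙ BigSite.resEt Ket S ≅ 𝟭 (EtCoh.Ab S) :=
  haveI : IsIso (BigSite.iEtAdj Ket S).counit :=
    haveI := fun G => isIso_counit_cocontinuous S AddCommGrpCat.{u + 1} G
    NatIso.isIso_of_isIso_app _
  asIso (BigSite.iEtAdj Ket S).counit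

variable (f : T ⟶ S)

/-- Direct image commutes with restriction to the small sites. -/
noncomputable def pushResIso :
    BigSite.pushBig Ket f AddCommGrpCat.{u + 1} ⋙ BigSite.resEt Ket S ≅
      BigSite.resEt Ket T ⋙ EtCoh.push f :=
  haveI : (EtCoh.bc f ⋙ EtFppf.a T).IsContinuous S.smallEtaleTopology (QuotSh.J Ket T) :=
    Functor.isContinuous_comp (EtCoh.bc f) (EtFppf.a T) S.smallEtaleTopology T.smallEtaleTopology
      (QuotSh.J Ket T)
  Functor.sheafPushforwardContinuousComp' (F := EtFppf.a S) (G := Over.pullback f)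
      (FG := EtCoh.bc f ⋙ EtFppf.a T)
      ((MorphismProperty.Over.pullbackCompForgetIso (P := EtCoh.etaleMP.{u}) (Q := ⊤) f).symm)
      AddCommGrpCat.{u + 1} S.smallEtaleTopology (QuotSh.J Ket S) (QuotSh.J Ket T) ≪≫
    (Functor.sheafPushforwardContinuousComp' (F := EtCoh.bc f) (G := EtFppf.a T)
      (FG := EtCoh.bc f ⋙ EtFppf.a T) (Iso.refl _)
      AddCommGrpCat.{u + 1} S.smallEtaleTopology T.smallEtaleTopology (QuotSh.J Ket T)).symm

/-- The right adjoint of restriction along `f`. -/
noncomputable abbrev alongAdj :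
    BigSite.resEtAlong Ket f ⊣ BigSite.iEtPush Ket T ⋙ BigSite.pushBig Ket f AddCommGrpCat.{u + 1} :=
  (BigSite.bigAdj Ket f AddCommGrpCat.{u + 1}).comp (BigSite.iEtAdj Ket T)

/-- The inverse image on the big site restricts to the inverse image on small sites. -/
noncomputable def piPullIso :
    BigSite.piEtPull Ket S ⋙ BigSite.resEtAlong Ket f ≅ EtCoh.pull f :=
  (((BigSite.piEtAdj Ket S).comp (alongAdj f)).ofNatIsoRight
    (Functor.associator _ _ _ ≪≫ Functor.isoWhiskerLeft _ (pushResIso f) ≪≫
      (Functor.associator _ _ _).symm ≪≫ Functor.isoWhiskerRight (resPushIso T) _ ≪≫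
      (EtCoh.push f).leftUnitor)).leftAdjointUniq (EtCoh.pullPushAdj f)

/-- Inverse image to the big site and back is the identity. -/
noncomputable def piResIso (S : Scheme.{u}) : 𝟭 (EtCoh.Ab S) ≅ BigSite.piEtPull Ket S ⋙ BigSite.resEt Ket S :=
  haveI := isIso_unit_continuous S AddCommGrpCat.{u + 1}
  asIso (BigSite.piEtAdj Ket S).unit

end Groth.Agent.Big45
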